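import Mathlib.RingTheory.AdjoinRoot
import Mathlib.Algebra.Polynomial.Lifts
import Mathlib.Algebra.Category.Ring.FilteredColimits
import Mathlib.Algebra.Category.Ring.Colimits
import Mathlib.CategoryTheory.Functor.OfSequence
import Mathlib.CategoryTheory.Limits.ConcreteCategory.Basic
import Mathlib.RingTheory.MvPolynomial.Basic
import Mathlib.Tactic

/-!
# Every ring embeds into an absolutely integrally closed ring
-/

set_option autoImplicit false
universe u
open Polynomial CategoryTheory CategoryTheory.Limits

namespace K81.AIC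

/-- A polynomial is a product of factors `X - b`. -/
def Spl {B : Type u} [CommRing B] (f : B[X]) : Prop :=
  ∃ s : Multiset B, f = (s.map fun b => X - C b).prod

theorem Spl.map {B B' : Type u} [CommRing B] [CommRing B'] (φ : B →+* B') {f : B[X]} (h : Spl f) :
    Spl (f.map φ) := by
  obtain ⟨s, rfl⟩ := h
  refine ⟨s.map φ, ?_⟩
  rw [← Polynomial.coe_mapRingHom, map_multiset_prod, Multiset.map_map, Multiset.map_map]
  congr 1
  apply Multiset.map_congr rfl
  intro x _
  simp

theorem spl_of_splits {B : Type u} [CommRing B] {f : B[X]} (hf : f.Monic) (h : f.Splits) : Spl f := by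
  obtain ⟨m, hm⟩ := splits_iff_exists_multiset.mp h
  refine ⟨m, ?_⟩
  rw [hf.leadingCoeff, C_1, one_mul] at hm
  exact hm

theorem exists_spl_finset {A : Type u} [CommRing A] [Nontrivial A] (t : Finset A[X])
    (ht : ∀ f ∈ t, f.Monic) :
    ∃ (S : Type u) (_ : CommRing S) (_ : Algebra A S), Nontrivial S ∧
      Function.Injective (algebraMap A S) ∧ ∀ f ∈ t, Spl (f.map (algebraMap A S)) := by
  classical
  induction t using Finset.induction_on with
  | empty => exact ⟨A, inferInstance, inferInstance, inferInstance, fun _ _ h => h, by simp⟩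
  | insert f t hft ih =>
    obtain ⟨S, _, _, _, hinj, hS⟩ := ih (fun g hg => ht g (Finset.mem_insert_of_mem hg))
    have hf : (f.map (algebraMap A S)).Monic := (ht f (Finset.mem_insert_self _ _)).map _
    obtain ⟨S', _, _, _, _, _, hS'⟩ := hf.exists_splits_map
    let _ : Algebra A S' := ((algebraMap S S').comp (algebraMap A S)).toAlgebra
    have hcomp : algebraMap A S' = (algebraMap S S').comp (algebraMap A S) := rfl
    refine ⟨S', inferInstance, inferInstance, inferInstance, ?_, ?_⟩
    · rw [hcomp]
      exact (FaithfulSMul.algebraMap_injective S S').comp hinj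
    · intro g hg
      rw [hcomp, ← Polynomial.map_map]
      rcases Finset.mem_insert.mp hg with rfl | hg
      · exact spl_of_splits (hf.map _) hS'
      · exact (hS g hg).map _

/-- The generators. -/
noncomputable def rel {A : Type u} [CommRing A] (f : {f : A[X] // f.Monic}) :
    (MvPolynomial ({f : A[X] // f.Monic} × ℕ) A)[X] :=
  f.1.map MvPolynomial.C -
    ((Multiset.range f.1.natDegree).map fun i => X - C (MvPolynomial.X (f, i))).prod

theorem rel_map {A S : Type u} [CommRing A] [CommRing S]
    (ev : MvPolynomial ({f : A[X] // f.Monic} × ℕ) A →+* S) (f : {f : A[X] // f.Monic}) :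
    (rel f).map ev = f.1.map (ev.comp MvPolynomial.C) -
      ((Multiset.range f.1.natDegree).map fun i => X - C (ev (MvPolynomial.X (f, i)))).prod := by
  unfold rel
  rw [Polynomial.map_sub, Polynomial.map_map, Polynomial.map_multiset_prod, Multiset.map_map]
  congr 2
  apply Multiset.map_congr rfl
  intro i _
  simp only [Function.comp_apply, Polynomial.map_sub, Polynomial.map_X, Polynomial.map_C]

theorem exists_fun_of_spl {S : Type u} [CommRing S] [Nontrivial S] {g : S[X]} (h : Spl g) :
    ∃ r : ℕ → S, g = ((Multiset.range g.natDegree).map fun i => X - C (r i)).prod := by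
  obtain ⟨s, hs⟩ := h
  have hcard : s.card = g.natDegree := by
    rw [hs, Polynomial.natDegree_multiset_prod_X_sub_C_eq_card]
  obtain ⟨l, rfl⟩ := Quot.exists_rep s
  refine ⟨fun i => l.getD i 0, ?_⟩
  have hl : l.length = g.natDegree := by simpa using hcard
  rw [← hl]
  have : (Multiset.range l.length).map (fun i => X - C (l.getD i 0)) =
      ((Multiset.range l.length).map fun i => l.getD i 0).map (fun b => X - C b) := by
    rw [Multiset.map_map]; rfl
  rw [this, hs]
  congr 2
  change (l : Multiset S) = ((List.range l.length : List ℕ) : Multiset ℕ).map fun i => l.getD i 0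
  rw [Multiset.map_coe]
  congr 1
  apply List.ext_getElem
  · simp
  · intro i h1 h2
    simp [List.getD_eq_getElem?_getD, h1]

/-- The ideal of relations. -/
noncomputable def J (A : Type u) [CommRing A] : Ideal (MvPolynomial ({f : A[X] // f.Monic} × ℕ) A) :=
  Ideal.span {x | ∃ (f : {f : A[X] // f.Monic}) (i : ℕ), x = (rel f).coeff i}

theorem C_mem_J {A : Type u} [CommRing A] [Nontrivial A] (a : A)
    (ha' : (MvPolynomial.C a : MvPolynomial ({f : A[X] // f.Monic} × ℕ) A) ∈ J A) : a = 0 := by
  classical
  obtain ⟨T, hT, haT⟩ := Submodule.mem_span_finite_of_mem_span ha'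
  have hch : ∀ x : MvPolynomial ({f : A[X] // f.Monic} × ℕ) A, x ∈ T →
      ∃ f : {f : A[X] // f.Monic}, ∃ i, x = (rel f).coeff i := fun x hx => hT hx
  have : Nonempty {f : A[X] // f.Monic} := ⟨⟨1, monic_one⟩⟩
  choose! F hF using hch
  obtain ⟨S, _, _, _, hinj, hS⟩ := exists_spl_finset (T.image fun x => (F x).1) (by
    intro f hf
    obtain ⟨x, _, rfl⟩ := Finset.mem_image.mp hf
    exact (F x).2)
  have hroots : ∀ f : {f : A[X] // f.Monic}, ∃ r : ℕ → S, f.1 ∈ (T.image fun x => (F x).1) →
      f.1.map (algebraMap A S) = ((Multiset.range f.1.natDegree).map fun i => X - C (r i)).prod := by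
    intro f
    by_cases hf : f.1 ∈ (T.image fun x => (F x).1)
    · obtain ⟨r, hr⟩ := exists_fun_of_spl (hS f.1 hf)
      rw [f.2.natDegree_map (algebraMap A S)] at hr
      exact ⟨r, fun _ => hr⟩
    · exact ⟨fun _ => 0, fun h => absurd h hf⟩
  choose r hr using hroots
  let ev : MvPolynomial ({f : A[X] // f.Monic} × ℕ) A →+* S :=
    MvPolynomial.eval₂Hom (algebraMap A S) fun p => r p.1 p.2
  have hC : ev.comp MvPolynomial.C = algebraMap A S := by
    ext a
    exact MvPolynomial.eval₂_C _ _ _
  have hX : ∀ p, ev (MvPolynomial.X p) = r p.1 p.2 := fun p => MvPolynomial.eval₂_X _ _ _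
  have hev : ∀ x ∈ T, ev x = 0 := by
    intro x hx
    obtain ⟨i, hi⟩ := hF x hx
    have h2 := hr (F x) (Finset.mem_image_of_mem _ hx)
    have h1 := rel_map ev (F x)
    rw [hC, h2] at h1
    simp only [hX, sub_self] at h1
    have h3 := congrArg (fun p => Polynomial.coeff p i) h1
    simp only [Polynomial.coeff_map, Polynomial.coeff_zero] at h3
    rw [hi]
    exact h3
  have h4 : (MvPolynomial.C a : MvPolynomial ({f : A[X] // f.Monic} × ℕ) A) ∈ RingHom.ker ev := by
    refine Submodule.span_le.mpr ?_ haT
    intro x hx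
    exact hev x hx
  apply hinj
  rw [map_zero, ← hC]
  exact h4

/-- One step of the construction. -/
theorem exists_step (A : Type u) [CommRing A] :
    ∃ (B : Type u) (_ : CommRing B) (_ : Algebra A B), Function.Injective (algebraMap A B) ∧
      ∀ f : A[X], f.Monic → Spl (f.map (algebraMap A B)) := by
  rcases subsingleton_or_nontrivial A with hA | hA
  · refine ⟨A, inferInstance, inferInstance, fun _ _ h => h, ?_⟩
    intro f _
    exact ⟨0, Subsingleton.elim _ _⟩
  refine ⟨MvPolynomial ({f : A[X] // f.Monic} × ℕ) A ⧸ J A, inferInstance, inferInstance, ?_, ?_⟩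
  · rw [injective_iff_map_eq_zero]
    intro a ha
    apply C_mem_J a
    rw [← Ideal.Quotient.eq_zero_iff_mem]
    exact ha
  · intro f hf
    refine ⟨(Multiset.range f.natDegree).map fun i =>
      Ideal.Quotient.mk (J A) (MvPolynomial.X (⟨f, hf⟩, i)), ?_⟩
    have h1 : (rel (⟨f, hf⟩ : {f : A[X] // f.Monic})).map (Ideal.Quotient.mk (J A)) = 0 := by
      ext i
      rw [Polynomial.coeff_map, Polynomial.coeff_zero, Ideal.Quotient.eq_zero_iff_mem]
      exact Ideal.subset_span ⟨_, i, rfl⟩
    rw [rel_map, sub_eq_zero] at h1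
    have h3 : (Ideal.Quotient.mk (J A)).comp MvPolynomial.C =
      algebraMap A (MvPolynomial ({f : A[X] // f.Monic} × ℕ) A ⧸ J A) := rfl
    rw [h3] at h1
    rw [h1, Multiset.map_map]
    rfl

/-- The tower of rings. -/
noncomputable def tower (A : Type u) [CommRing A] : ℕ → CommRingCat.{u}
  | 0 => CommRingCat.of A
  | n + 1 => @CommRingCat.of (exists_step (tower A n)).choose (exists_step (tower A n)).choose_spec.choose

/-- The transition map of the tower. -/
noncomputable def towerMap (A : Type u) [CommRing A] (n : ℕ) : tower A n ⟶ tower A (n + 1) :=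
  letI := (exists_step (tower A n)).choose_spec.choose
  letI := (exists_step (tower A n)).choose_spec.choose_spec.choose
  CommRingCat.ofHom (algebraMap (tower A n) (exists_step (tower A n)).choose)

theorem towerMap_injective (A : Type u) [CommRing A] (n : ℕ) :
    Function.Injective (towerMap A n).hom :=
  (exists_step (tower A n)).choose_spec.choose_spec.choose_spec.1

theorem towerMap_spl (A : Type u) [CommRing A] (n : ℕ) (f : (tower A n : Type u)[X]) (hf : f.Monic) :
    Spl (f.map (towerMap A n).hom) :=
  (exists_step (tower A n)).choose_spec.choose_spec.choose_spec.2 f hf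

/-- The tower as a functor. -/
noncomputable def F (A : Type u) [CommRing A] : ℕ ⥤ CommRingCat.{u} := Functor.ofSequence (towerMap A)

theorem F_map_injective (A : Type u) [CommRing A] {i j : ℕ} (f : i ⟶ j) :
    Function.Injective ((F A).map f).hom := by
  obtain ⟨k, rfl⟩ := Nat.exists_eq_add_of_le (leOfHom f)
  have key : Function.Injective ((F A).map (homOfLE (Nat.le_add_right i k))).hom := by
   clear f
   induction k with
   | zero =>
    have : homOfLE (Nat.le_add_right i 0) = 𝟙 i := Subsingleton.elim _ _
    rw [this, (F A).map_id]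
    exact fun _ _ h => h
   | succ k ih =>
    have : homOfLE (Nat.le_add_right i (k + 1)) =
        homOfLE (Nat.le_add_right i k) ≫ homOfLE (Nat.le_add_right (i + k) 1) := Subsingleton.elim _ _
    rw [this, (F A).map_comp]
    have h2 : (F A).map (homOfLE (Nat.le_add_right (i + k) 1)) = towerMap A (i + k) :=
      Functor.ofSequence_map_homOfLE_succ _ _
    rw [h2]
    exact (towerMap_injective A (i + k)).comp ih
  obtain rfl : f = homOfLE (Nat.le_add_right i k) := Subsingleton.elim _ _
  exact key

theorem exists_aic (A : Type u) [CommRing A] :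
    ∃ (B : Type u) (_ : CommRing B) (_ : Algebra A B), Function.Injective (algebraMap A B) ∧
      ∀ f : B[X], f.Monic → ∃ s : Multiset B, f = (s.map fun b => X - C b).prod := by
  let B : CommRingCat.{u} := colimit (F A)
  let ι : ∀ n : ℕ, (tower A n : Type u) →+* B := fun n => (colimit.ι (F A) n).hom
  have hι : ∀ n, (ι (n + 1)).comp (towerMap A n).hom = ι n := by
    intro n
    have h1 := colimit.w (F A) (homOfLE (Nat.le_add_right n 1))
    have h2 : (F A).map (homOfLE (Nat.le_add_right n 1)) = towerMap A n :=
      Functor.ofSequence_map_homOfLE_succ _ _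
    rw [h2] at h1
    exact congrArg CommRingCat.Hom.hom h1
  have hle : ∀ m n : ℕ, m ≤ n → (ι m).range ≤ (ι n).range := by
    intro m n hmn
    rintro _ ⟨x, rfl⟩
    have h1 := colimit.w (F A) (homOfLE hmn)
    refine ⟨((F A).map (homOfLE hmn)).hom x, ?_⟩
    change (((F A).map (homOfLE hmn)) ≫ colimit.ι (F A) n).hom x = _
    rw [h1]
    rfl
  have hpres : PreservesFilteredColimitsOfSize.{0, 0} (forget CommRingCat.{u}) :=
    preservesSmallestFilteredColimits_of_preservesFilteredColimits.{u, u} (forget CommRingCat.{u})
  have hpres2 : PreservesColimit (F A) (forget CommRingCat.{u}) :=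
    (hpres.preserves_filtered_colimits ℕ).preservesColimit
  refine ⟨B, inferInstance, (ι 0).toAlgebra, ?_, ?_⟩
  · intro x y hxy
    obtain ⟨k, f, g, h⟩ := (Types.FilteredColimit.isColimit_eq_iff _
      (isColimitOfPreserves (forget CommRingCat.{u}) (colimit.isColimit (F A)))).mp
      (show ((forget CommRingCat.{u}).mapCocone (colimit.cocone (F A))).ι.app 0 x =
        ((forget CommRingCat.{u}).mapCocone (colimit.cocone (F A))).ι.app 0 y from hxy)
    obtain rfl : f = g := Subsingleton.elim _ _
    exact F_map_injective A f h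
  · intro f hf
    have hex : ∀ i : ℕ, ∃ n : ℕ, f.coeff i ∈ (ι n).range := by
      intro i
      obtain ⟨n, y, hy⟩ := Concrete.colimit_exists_rep (F A) (f.coeff i)
      exact ⟨n, y, hy⟩
    choose n hn using hex
    let N := (Finset.range (f.natDegree + 1)).sup n
    have hlift : f ∈ Polynomial.lifts (ι N) := by
      rw [Polynomial.lifts_iff_coeff_lifts]
      intro i
      by_cases hi : i ∈ Finset.range (f.natDegree + 1)
      · exact hle _ _ (Finset.le_sup hi) (hn i)
      · rw [Finset.mem_range, not_lt] at hi
        rw [Polynomial.coeff_eq_zero_of_natDegree_lt (by omega)]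
        exact ⟨0, map_zero _⟩
    obtain ⟨g, hg, -, hgm⟩ := Polynomial.lifts_and_natDegree_eq_and_monic hlift hf
    have h1 := (towerMap_spl A N g hgm).map (ι (N + 1))
    rw [Polynomial.map_map, hι, hg] at h1
    exact h1

end K81.AIC
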