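import Mathlib.RingTheory.Extension.Presentation.Core
import Mathlib.RingTheory.Extension.Cotangent.Basic
import Mathlib.RingTheory.Unramified.Basic
import Mathlib.RingTheory.FinitePresentation
import Mathlib.Tactic

/-!
# Descent of G-unramified algebras to finite type `ℤ`-algebras
-/

set_option autoImplicit false
set_option linter.style.haveILetI false
universe u
open TensorProduct MvPolynomial

namespace K81.GUnram

/-- expansion of a derivation on a polynomial ring. -/
theorem derivation_expand {R : Type u} [CommRing R] {ι : Type*} [Fintype ι] {N : Type*}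
    [AddCommGroup N] [Module R N] [Module (MvPolynomial ι R) N] [IsScalarTower R (MvPolynomial ι R) N]
    (D : Derivation R (MvPolynomial ι R) N) (p : MvPolynomial ι R) :
    D p = ∑ j, pderiv j p • D (X j) := by
  classical
  let E : Derivation R (MvPolynomial ι R) N :=
    ∑ j, (LinearMap.toSpanSingleton (MvPolynomial ι R) N (D (X j))).compDer (pderiv j)
  have hE : ∀ q, E q = ∑ j, pderiv j q • D (X j) := by
    intro q
    change (∑ j, (LinearMap.toSpanSingleton (MvPolynomial ι R) N (D (X j))).compDer (pderiv j)) q = _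
    rw [← Derivation.coeFnAddMonoidHom_apply, map_sum, Finset.sum_apply]
    rfl
  have : D = E := by
    apply MvPolynomial.derivation_ext
    intro i
    rw [hE, Finset.sum_eq_single i]
    · rw [pderiv_X_self, one_smul]
    · intro j _ hj
      rw [pderiv_X_of_ne (Ne.symm hj), zero_smul]
    · intro h; exact absurd (Finset.mem_univ i) h
  rw [← hE, ← this]

theorem exists_rel {R S : Type u} [CommRing R] [CommRing S] [Algebra R S] {ι σ : Type} [Fintype ι]
    [Fintype σ] [DecidableEq ι] (P : Algebra.Presentation R S ι σ) [Algebra.FormallyUnramified R S] (i : ι) :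
    ∃ (g : σ → MvPolynomial ι R) (h : ι → σ → MvPolynomial ι R), ∀ j,
      (if i = j then 1 else 0) - pderiv j (∑ k, g k * P.relation k) = ∑ k, h j k * P.relation k := by
  have hsurj : Function.Surjective P.toExtension.cotangentComplex := by
    intro x
    have h1 := (P.toExtension.exact_cotangentComplex_toKaehler x).mp (Subsingleton.elim _ _)
    exact h1
  obtain ⟨c, hc⟩ := hsurj (P.cotangentSpaceBasis i)
  obtain ⟨y, rfl⟩ := Algebra.Extension.Cotangent.mk_surjective c
  let y' : MvPolynomial ι R := y.1
  have hy : y' ∈ Ideal.span (Set.range P.relation) := by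
    rw [P.span_range_relation_eq_ker]
    exact y.2
  obtain ⟨g, hg⟩ := (Ideal.mem_span_range_iff_exists_fun).mp hy
  have hh : ∀ j, ∃ h : σ → MvPolynomial ι R,
      (if i = j then 1 else 0) - pderiv j (∑ k, g k * P.relation k) = ∑ k, h k * P.relation k := by
    intro j
    have h2 : (if i = j then 1 else 0) - pderiv j (∑ k, g k * P.relation k) ∈
        Ideal.span (Set.range P.relation) := by
      rw [P.span_range_relation_eq_ker]
      have hk : ∀ q : MvPolynomial ι R, q ∈ P.ker ↔ aeval P.val q = 0 := fun q => by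
        rw [Algebra.Generators.ker_eq_ker_aeval_val, RingHom.mem_ker]
      rw [hk, hg, map_sub, sub_eq_zero]
      have h5 : (P.cotangentSpaceBasis.repr (P.cotangentSpaceBasis i)) j = aeval P.val (pderiv j y') := by
        rw [← hc]
        exact P.cotangentSpaceBasis_repr_one_tmul y' j
      rw [← h5, Module.Basis.repr_self, Finsupp.single_apply]
      split_ifs <;> simp
    obtain ⟨h, hh⟩ := (Ideal.mem_span_range_iff_exists_fun).mp h2
    exact ⟨h, hh.symm⟩
  choose h hh using hh
  exact ⟨g, h, hh⟩

/-- Unramifiedness of a quotient of a polynomial ring from relations. -/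
theorem formallyUnramified_of_rel' {R : Type u} [CommRing R] {ι σ : Type} [Fintype ι] [Fintype σ]
    [DecidableEq ι] (S : Type u) [CommRing S] [Algebra R S] [Algebra (MvPolynomial ι R) S]
    [IsScalarTower R (MvPolynomial ι R) S] (hsurj : Function.Surjective (algebraMap (MvPolynomial ι R) S))
    (rel : σ → MvPolynomial ι R) (h0 : ∀ k, algebraMap (MvPolynomial ι R) S (rel k) = 0)
    (H : ∀ i : ι, ∃ (g : σ → MvPolynomial ι R) (h : ι → σ → MvPolynomial ι R), ∀ j,
      (if i = j then 1 else 0) - pderiv j (∑ k, g k * rel k) = ∑ k, h j k * rel k) :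
    Algebra.FormallyUnramified R S := by
  let D : Derivation R (MvPolynomial ι R) (Ω[S⁄R]) :=
      (KaehlerDifferential.D R S).compAlgebraMap (MvPolynomial ι R)
  have hD : ∀ p, D p = KaehlerDifferential.D R S (algebraMap (MvPolynomial ι R) S p) := fun p => rfl
  have hsm : ∀ (p : MvPolynomial ι R) (w : Ω[S⁄R]), algebraMap (MvPolynomial ι R) S p = 0 → p • w = 0 := by
    intro p w hp
    rw [← algebraMap_smul S p w, hp, zero_smul]
  have hmem : ∀ q : σ → MvPolynomial ι R, algebraMap (MvPolynomial ι R) S (∑ k, q k * rel k) = 0 := by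
    intro q
    rw [map_sum]
    refine Finset.sum_eq_zero fun k _ => ?_
    rw [map_mul, h0, mul_zero]
  have hX : ∀ i : ι, D (X i) = 0 := by
    intro i
    obtain ⟨g, h, hgh⟩ := H i
    have h1 := derivation_expand D (∑ k, g k * rel k)
    rw [hD, hmem, map_zero] at h1
    have h2 : ∀ j, pderiv j (∑ k, g k * rel k) • D (X j) = (if i = j then D (X i) else 0) := by
      intro j
      have h3 : pderiv j (∑ k, g k * rel k) = (if i = j then 1 else 0) - ∑ k, h j k * rel k := by
        rw [← hgh j]; ring
      rw [h3, sub_smul, hsm _ _ (hmem _), sub_zero]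
      split_ifs with hij
      · rw [one_smul, hij]
      · rw [zero_smul]
    rw [Finset.sum_congr rfl fun j _ => h2 j] at h1
    rw [Finset.sum_ite_eq] at h1
    simp only [Finset.mem_univ, if_true] at h1
    exact h1.symm
  have htop : (⊤ : Submodule S (Ω[S⁄R])) = ⊥ := by
    rw [← KaehlerDifferential.span_range_derivation, Submodule.span_eq_bot]
    rintro _ ⟨s, rfl⟩
    obtain ⟨p, rfl⟩ := hsurj s
    rw [← hD, derivation_expand D p]
    apply Finset.sum_eq_zero
    intro j _
    rw [hX, smul_zero]
  constructor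
  rw [← not_nontrivial_iff_subsingleton]
  intro hnt
  exact top_ne_bot htop

theorem formallyUnramified_of_rel {R : Type u} [CommRing R] {ι σ : Type} [Fintype ι] [Fintype σ]
    [DecidableEq ι] (rel : σ → MvPolynomial ι R)
    (H : ∀ i : ι, ∃ (g : σ → MvPolynomial ι R) (h : ι → σ → MvPolynomial ι R), ∀ j,
      (if i = j then 1 else 0) - pderiv j (∑ k, g k * rel k) = ∑ k, h j k * rel k) :
    Algebra.FormallyUnramified R (MvPolynomial ι R ⧸ Ideal.span (Set.range rel)) :=
  formallyUnramified_of_rel' _ Ideal.Quotient.mk_surjective rel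
    (fun k => Ideal.Quotient.eq_zero_iff_mem.mpr (Ideal.subset_span ⟨k, rfl⟩)) H

theorem exists_model (R : Type u) [CommRing R] (S : Type u) [CommRing S]
    [Algebra R S] [Algebra.FinitePresentation R S] [Algebra.FormallyUnramified R S] :
    ∃ (R₀ : Type u) (_ : CommRing R₀) (_ : Algebra.FiniteType ℤ R₀) (S₀ : Type u) (_ : CommRing S₀)
      (_ : Algebra R₀ S₀) (_ : Algebra.FinitePresentation R₀ S₀) (_ : Algebra.FormallyUnramified R₀ S₀)
      (_ : Algebra R₀ R), Nonempty (R ⊗[R₀] S₀ ≃ₐ[R] S) := by
  classical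
  obtain ⟨n, m, ⟨P⟩⟩ := Algebra.Presentation.exists_presentation_fin R S
  have H := fun i => exists_rel P i
  choose g h hgh using H
  let T : Set R := P.coeffs ∪ ((⋃ i, ⋃ k, ((g i k).coeffs : Set R)) ∪
    ⋃ i, ⋃ j, ⋃ k, ((h i j k).coeffs : Set R))
  have hT : T.Finite := by
    refine P.finite_coeffs.union (Set.Finite.union ?_ ?_)
    · exact Set.finite_iUnion fun i => Set.finite_iUnion fun k => Finset.finite_toSet _
    · exact Set.finite_iUnion fun i => Set.finite_iUnion fun j => Set.finite_iUnion fun k =>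
        Finset.finite_toSet _
  let R₀ : Subalgebra ℤ R := Algebra.adjoin ℤ T
  have hTR : T ⊆ Set.range (algebraMap R₀ R) := by
    intro x hx
    exact ⟨⟨x, Algebra.subset_adjoin hx⟩, rfl⟩
  haveI hft : Algebra.FiniteType ℤ R₀ := .adjoin_of_finite hT
  haveI : P.HasCoeffs R₀ := ⟨fun x hx => hTR (Or.inl hx)⟩
  have hinj : Function.Injective (algebraMap R₀ R) := Subtype.val_injective
  have hlift : ∀ p : MvPolynomial (Fin n) R, (p.coeffs : Set R) ⊆ T →
      ∃ q : MvPolynomial (Fin n) R₀, MvPolynomial.map (algebraMap R₀ R) q = p := by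
    intro p hp
    have := (MvPolynomial.mem_range_map_iff_coeffs_subset (f := algebraMap R₀ R) (x := p)).mpr (hp.trans hTR)
    exact this
  have hg : ∀ i k, ∃ q : MvPolynomial (Fin n) R₀, MvPolynomial.map (algebraMap R₀ R) q = g i k := by
    intro i k
    refine hlift _ ?_
    intro x hx
    exact Or.inr (Or.inl (Set.mem_iUnion.mpr ⟨i, Set.mem_iUnion.mpr ⟨k, hx⟩⟩))
  have hh : ∀ i j k, ∃ q : MvPolynomial (Fin n) R₀, MvPolynomial.map (algebraMap R₀ R) q = h i j k := by
    intro i j k
    refine hlift _ ?_
    intro x hx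
    exact Or.inr (Or.inr (Set.mem_iUnion.mpr ⟨i, Set.mem_iUnion.mpr ⟨j, Set.mem_iUnion.mpr ⟨k, hx⟩⟩⟩))
  choose G hG using hg
  choose H hH using hh
  haveI hunr : Algebra.FormallyUnramified R₀ (P.ModelOfHasCoeffs R₀) := by
    refine formallyUnramified_of_rel (P.relationOfHasCoeffs R₀) fun i => ⟨G i, H i, fun j => ?_⟩
    apply MvPolynomial.map_injective (algebraMap R₀ R) hinj
    have e1 : MvPolynomial.map (algebraMap R₀ R) (∑ k, G i k * P.relationOfHasCoeffs R₀ k) =
        ∑ k, g i k * P.relation k := by
      rw [map_sum]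
      simp only [map_mul, hG, Algebra.Presentation.map_relationOfHasCoeffs]
    have e2 : MvPolynomial.map (algebraMap R₀ R) (∑ k, H i j k * P.relationOfHasCoeffs R₀ k) =
        ∑ k, h i j k * P.relation k := by
      rw [map_sum]
      simp only [map_mul, hH, Algebra.Presentation.map_relationOfHasCoeffs]
    rw [map_sub, ← MvPolynomial.pderiv_map, e1, e2, ← hgh i j]
    split_ifs <;> simp
  exact ⟨R₀, inferInstance, hft, P.ModelOfHasCoeffs R₀, inferInstance, inferInstance, inferInstance,
    hunr, inferInstance, ⟨P.tensorModelOfHasCoeffsEquiv R₀⟩⟩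

end K81.GUnram
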