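import Mathlib.RingTheory.GradedAlgebra.HomogeneousLocalization
import Mathlib.RingTheory.FiniteType
import Mathlib.Algebra.Module.LocalizedModule.Basic
import Mathlib.Algebra.Module.GradedModule
import Mathlib.Algebra.Polynomial.Module.Basic
import Mathlib.Algebra.DirectSum.Ring
import Mathlib.Tactic

/-!
# Extension of a finite module to a graded module

`S` graded, `f ∈ S_1`, `e : S_(f) ≃ R'`. `phi : S →+* R'[X]` sends `s ∈ S_i` to `e (s / f ^ i) X ^ i`.
-/

set_option autoImplicit false
set_option linter.style.haveILetI false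
universe u
open Polynomial

namespace K81.GrExt

section Ring

variable {R R' : Type u} [CommRing R] [CommRing R'] {S : Type u} [CommRing S] [Algebra R S]
  (𝒜 : ℕ → Submodule R S) [GradedAlgebra 𝒜] {f : S} (hf : f ∈ 𝒜 1)
  (e : HomogeneousLocalization.Away 𝒜 f ≃+* R')

/-- the fraction `s / f ^ i`. -/
noncomputable def q (i : ℕ) (s : 𝒜 i) : HomogeneousLocalization.Away 𝒜 f :=
  HomogeneousLocalization.Away.mk 𝒜 hf i s.1 (by simp)

theorem val_q (i : ℕ) (s : 𝒜 i) : (q 𝒜 hf i s).val =
    Localization.mk s.1 (⟨f ^ i, i, rfl⟩ : Submonoid.powers f) :=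
  HomogeneousLocalization.Away.val_mk _ _ _ _ _

theorem q_add (i : ℕ) (s t : 𝒜 i) : q 𝒜 hf i (s + t) = q 𝒜 hf i s + q 𝒜 hf i t := by
  apply HomogeneousLocalization.val_injective
  rw [HomogeneousLocalization.val_add, val_q, val_q, val_q, Localization.add_mk_self]
  rfl

theorem q_zero (i : ℕ) : q 𝒜 hf i 0 = 0 := by
  apply HomogeneousLocalization.val_injective
  rw [HomogeneousLocalization.val_zero, val_q]
  exact Localization.mk_zero _

theorem q_mul {i j : ℕ} (s : 𝒜 i) (t : 𝒜 j) (h : s.1 * t.1 ∈ 𝒜 (i + j)) :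
    q 𝒜 hf (i + j) ⟨s.1 * t.1, h⟩ = q 𝒜 hf i s * q 𝒜 hf j t := by
  apply HomogeneousLocalization.val_injective
  rw [HomogeneousLocalization.val_mul, val_q, val_q, val_q, Localization.mk_mul]
  congr 1
  apply Subtype.ext
  exact pow_add f i j

theorem q_one (h : (1 : S) ∈ 𝒜 0) : q 𝒜 hf 0 ⟨1, h⟩ = 1 := by
  apply HomogeneousLocalization.val_injective
  rw [HomogeneousLocalization.val_one, val_q, ← Localization.mk_one]
  congr 1
  apply Subtype.ext
  exact pow_zero f

theorem q_f : q 𝒜 hf 1 ⟨f, hf⟩ = 1 := by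
  apply HomogeneousLocalization.val_injective
  rw [HomogeneousLocalization.val_one, val_q]
  have : (⟨f ^ 1, 1, rfl⟩ : Submonoid.powers f) = ⟨f, Submonoid.mem_powers f⟩ := by
    apply Subtype.ext
    exact pow_one f
  rw [this]
  exact Localization.mk_self (⟨f, Submonoid.mem_powers f⟩ : Submonoid.powers f)

theorem exists_q (x : HomogeneousLocalization.Away 𝒜 f) : ∃ (i : ℕ) (s : 𝒜 i), q 𝒜 hf i s = x := by
  obtain ⟨n, a, ha, rfl⟩ := HomogeneousLocalization.Away.mk_surjective 𝒜 hf x
  exact ⟨n, ⟨a, by simpa using ha⟩, rfl⟩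

theorem q_pow (i j : ℕ) (s : 𝒜 i) (h : f ^ j * s.1 ∈ 𝒜 (j + i)) :
    q 𝒜 hf (j + i) ⟨f ^ j * s.1, h⟩ = q 𝒜 hf i s := by
  apply HomogeneousLocalization.val_injective
  rw [val_q, val_q, Localization.mk_eq_mk_iff, Localization.r_iff_exists]
  refine ⟨1, ?_⟩
  simp only [OneMemClass.coe_one, one_mul]
  rw [pow_add]
  ring

/-- The degree `i` part of `phi`. -/
noncomputable def F (i : ℕ) : 𝒜 i →+ R'[X] where
  toFun s := monomial i (e (q 𝒜 hf i s))
  map_zero' := by rw [q_zero, map_zero, map_zero]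
  map_add' s t := by rw [q_add, map_add, map_add]

theorem F_one : F 𝒜 hf e 0 (GradedMonoid.GOne.one (A := fun i => 𝒜 i)) = 1 := by
  change monomial 0 (e (q 𝒜 hf 0 ⟨1, _⟩)) = 1
  rw [q_one, map_one]; rfl

theorem F_mul {i j : ℕ} (s : 𝒜 i) (t : 𝒜 j) :
    F 𝒜 hf e (i + j) (GradedMonoid.GMul.mul (A := fun i => 𝒜 i) s t) = F 𝒜 hf e i s * F 𝒜 hf e j t := by
  change monomial (i + j) (e (q 𝒜 hf (i + j) ⟨s.1 * t.1, _⟩)) =
    monomial i (e (q 𝒜 hf i s)) * monomial j (e (q 𝒜 hf j t))
  rw [q_mul, map_mul, monomial_mul_monomial]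

/-- The ring homomorphism `S → R'[X]`. -/
noncomputable def phi : S →+* R'[X] :=
  (DirectSum.toSemiring (F 𝒜 hf e) (F_one 𝒜 hf e) (F_mul 𝒜 hf e)).comp
    (DirectSum.decomposeRingEquiv 𝒜).toRingHom

theorem phi_of_mem {i : ℕ} {s : S} (hs : s ∈ 𝒜 i) :
    phi 𝒜 hf e s = monomial i (e (q 𝒜 hf i ⟨s, hs⟩)) := by
  change (DirectSum.toSemiring (F 𝒜 hf e) (F_one 𝒜 hf e) (F_mul 𝒜 hf e)) (DirectSum.decompose 𝒜 s) = _
  rw [DirectSum.decompose_of_mem 𝒜 hs, DirectSum.toSemiring_of]
  rfl

theorem phi_f : phi 𝒜 hf e f = X := by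
  rw [phi_of_mem 𝒜 hf e hf, q_f, map_one, monomial_one_one_eq_X]

theorem phi_algebraMap [Algebra R R']
    (he : ∀ r : R, (e.symm (algebraMap R R' r)).val = algebraMap S (Localization.Away f) (algebraMap R S r))
    (r : R) : phi 𝒜 hf e (algebraMap R S r) = C (algebraMap R R' r) := by
  have hmem : algebraMap R S r ∈ 𝒜 0 := SetLike.algebraMap_mem_graded 𝒜 r
  rw [phi_of_mem 𝒜 hf e hmem]
  have : q 𝒜 hf 0 ⟨algebraMap R S r, hmem⟩ = e.symm (algebraMap R R' r) := by
    apply HomogeneousLocalization.val_injective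
    rw [he, val_q, ← Localization.mk_one_eq_algebraMap]
    congr 1
    apply Subtype.ext
    exact pow_zero f
  rw [this, e.apply_symm_apply]
  rfl

end Ring

/-- The polynomial module as an `S`-module through `φ`. -/
def MT {R' S : Type u} [CommRing R'] [CommRing S] (_ : S →+* R'[X]) (M : Type u) [AddCommGroup M]
    [Module R' M] : Type u := PolynomialModule R' M

/-- The module `M` as an `S`-module through `φ` and `X = 1`. -/
def Me {R' S : Type u} [CommRing R'] [CommRing S] (_ : S →+* R'[X]) (M : Type u) : Type u := M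

section Mod

variable {R' : Type u} [CommRing R'] {S : Type u} [CommRing S]
  (φ : S →+* R'[X]) (M : Type u) [AddCommGroup M] [Module R' M]

noncomputable instance : AddCommGroup (MT φ M) := inferInstanceAs (AddCommGroup (PolynomialModule R' M))

noncomputable instance : Module S (MT φ M) :=
  Module.compHom (PolynomialModule R' M) φ

noncomputable instance : AddCommGroup (Me φ M) := inferInstanceAs (AddCommGroup M)

noncomputable instance : Module S (Me φ M) :=
  Module.compHom M ((evalRingHom (1 : R')).comp φ)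

variable {M}

/-- `m X ^ d`. -/
noncomputable def sg (d : ℕ) : M →+ MT φ M where
  toFun m := PolynomialModule.single R' d m
  map_zero' := PolynomialModule.single_zero d
  map_add' m m' := PolynomialModule.single_add d m m'

/-- the coefficient of `X ^ d`. -/
noncomputable def cf (d : ℕ) : MT φ M →+ M where
  toFun x := PolynomialModule.coeff x d
  map_zero' := rfl
  map_add' _ _ := rfl

theorem cf_sg (d j : ℕ) (m : M) : cf φ j (sg φ d m) = if d = j then m else 0 :=
  Finsupp.single_apply

theorem ext_cf {x y : MT φ M} (h : ∀ d, cf φ d x = cf φ d y) : x = y :=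
  PolynomialModule.ext (Finsupp.ext h)

theorem smul_sg {s : S} {i : ℕ} {a : R'} (hs : φ s = monomial i a) (d : ℕ) (m : M) :
    s • sg φ d m = sg φ (i + d) (a • m) := by
  change φ s • PolynomialModule.single R' d m = _
  rw [hs, PolynomialModule.monomial_smul_single]
  rfl

theorem cf_smul {s : S} {i : ℕ} {a : R'} (hs : φ s = monomial i a) (d : ℕ) (x : MT φ M) :
    cf φ d (s • x) = if i ≤ d then a • cf φ (d - i) x else 0 := by
  change PolynomialModule.coeff (φ s • (show PolynomialModule R' M from x)) d = _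
  rw [hs, PolynomialModule.monomial_smul_apply]
  rfl

/-- evaluation at `X = 1`. -/
noncomputable def ev : MT φ M →ₗ[S] Me φ M where
  toFun x := PolynomialModule.eval (M := M) (1 : R') (show PolynomialModule R' M from x)
  map_add' _ _ := map_add (PolynomialModule.eval (M := M) (1 : R')) _ _
  map_smul' _ _ := PolynomialModule.eval_smul (M := M) _ _ _

theorem ev_sg (d : ℕ) (m : M) : ev φ (sg φ d m) = m := by
  change PolynomialModule.eval (M := M) (1 : R') (PolynomialModule.single R' d m) = m
  rw [PolynomialModule.eval_single, one_pow, one_smul]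

theorem me_smul {s : S} {i : ℕ} {a : R'} (hs : φ s = monomial i a) (m : Me φ M) :
    s • m = @HSMul.hSMul R' M M _ a m := by
  change @HSMul.hSMul R' M M _ (eval (1 : R') (φ s)) m = _
  rw [hs, eval_monomial, one_pow, mul_one]

theorem me_smul_of_X {f : S} (hf : φ f = X) (k : ℕ) (m : Me φ M) : (f ^ k) • m = m := by
  have : φ (f ^ k) = monomial k (1 : R') := by
    rw [map_pow, hf, X_pow_eq_monomial]
  rw [me_smul φ this]
  exact @one_smul R' M _ _ m

end Mod

section Main

variable {R R' : Type u} [CommRing R] [CommRing R'] {S : Type u} [CommRing S] [Algebra R S]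
  (𝒜 : ℕ → Submodule R S) [GradedAlgebra 𝒜] {f : S} (hf : f ∈ 𝒜 1)
  (e : HomogeneousLocalization.Away 𝒜 f ≃+* R')
  {M : Type u} [AddCommGroup M] [Module R' M] {r : ℕ} (g : Fin r → M)

/-- The graded module: the submodule of `M[X]` generated by the generators in degree zero. -/
noncomputable def Nsub : Submodule S (MT (phi 𝒜 hf e) M) :=
  Submodule.span S (Set.range fun i => sg (phi 𝒜 hf e) 0 (g i))

theorem comp_mem (x : MT (phi 𝒜 hf e) M) (hx : x ∈ Nsub 𝒜 hf e g) (d : ℕ) :
    sg (phi 𝒜 hf e) d (cf (phi 𝒜 hf e) d x) ∈ Nsub 𝒜 hf e g := by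
  unfold Nsub at hx
  induction hx using Submodule.span_induction generalizing d with
  | mem x hx =>
    obtain ⟨i, rfl⟩ := hx
    simp only [cf_sg]
    split_ifs with h
    · subst h
      exact Submodule.subset_span ⟨i, rfl⟩
    · rw [map_zero]; exact Submodule.zero_mem _
  | zero => rw [map_zero, map_zero]; exact Submodule.zero_mem _
  | add x y _ _ hx hy => rw [map_add, map_add]; exact Submodule.add_mem _ (hx d) (hy d)
  | smul s x _ hx =>
    refine DirectSum.Decomposition.inductionOn 𝒜 (motive := fun s =>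
      sg (phi 𝒜 hf e) d (cf (phi 𝒜 hf e) d (s • x)) ∈ Nsub 𝒜 hf e g) ?_ ?_ ?_ s
    · rw [zero_smul, map_zero, map_zero]; exact Submodule.zero_mem _
    · intro i s
      rw [cf_smul _ (phi_of_mem 𝒜 hf e s.2)]
      split_ifs with h
      · obtain ⟨j, rfl⟩ := Nat.exists_eq_add_of_le h
        rw [← smul_sg _ (phi_of_mem 𝒜 hf e s.2), Nat.add_sub_cancel_left]
        exact Submodule.smul_mem _ _ (hx j)
      · rw [map_zero]; exact Submodule.zero_mem _
    · intro s t hs ht
      rw [add_smul, map_add, map_add]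
      exact Submodule.add_mem _ hs ht

theorem exists_smul_sum (hg : Submodule.span R' (Set.range g) = ⊤) (m : M) :
    ∃ k : ℕ, sg (phi 𝒜 hf e) k m ∈ Nsub 𝒜 hf e g := by
  have hm : m ∈ Submodule.span R' (Set.range g) := hg ▸ Submodule.mem_top
  have key : ∀ k j : ℕ, ∀ m : M, sg (phi 𝒜 hf e) k m ∈ Nsub 𝒜 hf e g →
      sg (phi 𝒜 hf e) (j + k) m ∈ Nsub 𝒜 hf e g := by
    intro k j m h
    have hp : phi 𝒜 hf e (f ^ j) = monomial j (1 : R') := by
      rw [map_pow, phi_f, X_pow_eq_monomial]
    have := smul_sg _ hp k m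
    rw [one_smul] at this
    rw [← this]
    exact Submodule.smul_mem _ _ h
  induction hm using Submodule.span_induction with
  | mem x hx =>
    obtain ⟨i, rfl⟩ := hx
    exact ⟨0, Submodule.subset_span ⟨i, rfl⟩⟩
  | zero => exact ⟨0, by rw [map_zero]; exact Submodule.zero_mem _⟩
  | add x y _ _ hx hy =>
    obtain ⟨k, hk⟩ := hx
    obtain ⟨l, hl⟩ := hy
    refine ⟨l + k, ?_⟩
    rw [map_add]
    exact Submodule.add_mem _ (key _ _ _ hk) (by rw [add_comm]; exact key _ _ _ hl)
  | smul a x _ hx =>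
    obtain ⟨k, hk⟩ := hx
    obtain ⟨i, s, hs⟩ := exists_q 𝒜 hf (e.symm a)
    refine ⟨i + k, ?_⟩
    have h1 := smul_sg _ (phi_of_mem 𝒜 hf e s.2) k x
    rw [Subtype.coe_eta, hs, e.apply_symm_apply] at h1
    rw [← h1]
    exact Submodule.smul_mem _ _ hk

end Main

theorem main (R R' : Type u) [CommRing R] [CommRing R']
    [Algebra R R'] [Algebra.FiniteType R R']
    (M : Type u) [AddCommGroup M] [Module R' M] [Module R M] [IsScalarTower R R' M] [Module.Finite R' M]
    (S : Type u) [CommRing S] [Algebra R S] (𝒜 : ℕ → Submodule R S) [GradedAlgebra 𝒜] (f : S) (hf : f ∈ 𝒜 1)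
    (e : HomogeneousLocalization.Away 𝒜 f ≃+* R')
    (he : ∀ r : R, (e.symm (algebraMap R R' r)).val = algebraMap S (Localization.Away f) (algebraMap R S r)) :
    ∃ (N : Type u) (_ : AddCommGroup N) (_ : Module S N) (_ : Module R N) (_ : IsScalarTower R S N)
      (ℳ : ℕ → Submodule R N) (_ : DirectSum.Decomposition ℳ) (_ : SetLike.GradedSMul 𝒜 ℳ)
      (Nf : Submodule R (LocalizedModule (Submonoid.powers f) N)) (e' : ↥Nf ≃ₗ[R] M),
      Module.Finite S N ∧
      (∀ x, x ∈ Nf ↔ ∃ k : ℕ, ∃ n ∈ ℳ k, f ^ k • x = LocalizedModule.mk n 1) ∧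
      (∀ (a : HomogeneousLocalization.Away 𝒜 f) (x y : ↥Nf),
        a.val • (x : LocalizedModule (Submonoid.powers f) N) = y → e' y = e a • e' x) := by
  classical
  obtain ⟨r, g, hg⟩ := Module.Finite.exists_fin (R := R') (M := M)
  let φ := phi 𝒜 hf e
  let N := ↥(Nsub 𝒜 hf e g)
  letI i1 : Module R N := Module.compHom N (algebraMap R S)
  haveI i2 : IsScalarTower R S N := ⟨fun a s x => by
    change (a • s) • x = (algebraMap R S a) • (s • x)
    rw [Algebra.smul_def, mul_smul]⟩
  have hR : ∀ (a : R) (x : N), a • x = (algebraMap R S a) • x := fun _ _ => rfl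
  have hRφ : ∀ a : R, φ (algebraMap R S a) = monomial 0 (algebraMap R R' a) :=
    phi_algebraMap 𝒜 hf e he
  have hcf : ∀ (a : R) (d : ℕ) (x : N), cf φ d (a • x : N).1 = a • cf φ d x.1 := by
    intro a d x
    change cf φ d ((algebraMap R S a) • x.1) = _
    rw [cf_smul φ (hRφ a)]
    simp
  let ℳ : ℕ → Submodule R N := fun d =>
    { carrier := {x | ∀ j, j ≠ d → cf φ j x.1 = 0}
      add_mem' := fun {x y} hx hy j hj => by
        change cf φ j (x.1 + y.1) = 0
        rw [map_add, hx j hj, hy j hj, add_zero]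
      zero_mem' := fun j _ => map_zero _
      smul_mem' := fun a x hx j hj => by
        change cf φ j (a • x : N).1 = 0
        rw [hcf, hx j hj, smul_zero] }
  have hmem : ∀ d (x : N), x ∈ ℳ d ↔ x.1 = sg φ d (cf φ d x.1) := by
    intro d x
    constructor
    · intro hx
      apply ext_cf
      intro j
      rw [cf_sg]
      split_ifs with h
      · rw [h]
      · exact hx j (fun h' => h h'.symm)
    · intro hx j hj
      rw [hx, cf_sg, if_neg hj.symm]
  let comp : ∀ d, N → ℳ d := fun d x => ⟨⟨sg φ d (cf φ d x.1), comp_mem 𝒜 hf e g x.1 x.2 d⟩, by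
    intro j hj
    rw [cf_sg, if_neg hj.symm]⟩
  have hint : DirectSum.IsInternal ℳ := by
    constructor
    · rw [injective_iff_map_eq_zero]
      intro z hz
      ext d
      have h1 : ∀ z : DirectSum ℕ (fun i => ℳ i), ∀ d, cf φ d (DirectSum.coeAddMonoidHom ℳ z).1 =
          cf φ d (z d).1.1 := by
        intro z d
        induction z using DirectSum.induction_on with
        | zero => simp
        | of i x =>
          rw [DirectSum.coeAddMonoidHom_of]
          by_cases h : i = d
          · subst h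
            rw [DirectSum.of_eq_same]
          · rw [DirectSum.of_eq_of_ne _ _ _ (Ne.symm h), x.2 d (Ne.symm h)]
            exact (map_zero _).symm
        | add x y hx hy =>
          rw [map_add]
          change cf φ d ((DirectSum.coeAddMonoidHom ℳ x).1 + (DirectSum.coeAddMonoidHom ℳ y).1) =
            cf φ d ((x d).1.1 + (y d).1.1)
          rw [map_add, map_add, hx, hy]
      have h2 := h1 z d
      rw [hz] at h2
      have h3 := (hmem d _).mp (z d).2
      rw [h3, ← h2]
      change sg φ d (cf φ d 0) = 0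
      rw [map_zero, map_zero]
    · intro x
      refine ⟨∑ d ∈ (PolynomialModule.coeff x.1).support, DirectSum.of (fun i => ℳ i) d (comp d x), ?_⟩
      apply Subtype.ext
      apply ext_cf φ
      intro j
      rw [map_sum]
      simp only [DirectSum.coeAddMonoidHom_of]
      have h4 : ((∑ d ∈ (PolynomialModule.coeff x.1).support, (comp d x : N) : N) : MT φ M) =
          ∑ d ∈ (PolynomialModule.coeff x.1).support, sg φ d (cf φ d x.1) := by
        rw [AddSubmonoidClass.coe_finsetSum]
      rw [h4, map_sum]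
      simp only [cf_sg]
      rw [Finset.sum_ite_eq']
      split_ifs with h
      · rfl
      · rw [Finsupp.mem_support_iff, not_not] at h
        exact h.symm
  letI dec : DirectSum.Decomposition ℳ := hint.chooseDecomposition
  haveI gs : SetLike.GradedSMul 𝒜 ℳ := ⟨fun {i j s x} hs hx => by
    intro l hl
    change cf φ l (s • x.1) = 0
    rw [cf_smul φ (phi_of_mem 𝒜 hf e hs)]
    split_ifs with h
    · rw [hx (l - i) (by
        intro h'
        apply hl
        change l = i + j
        omega), smul_zero]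
    · rfl⟩
  -- evaluation at `1`
  have hfX : φ f = X := phi_f 𝒜 hf e
  have hunit : ∀ x : Submonoid.powers f, IsUnit (algebraMap S (Module.End S (Me φ M)) x) := by
    rintro ⟨_, k, rfl⟩
    have : algebraMap S (Module.End S (Me φ M)) (f ^ k) = 1 := by
      ext m
      exact me_smul_of_X φ hfX k m
    change IsUnit (algebraMap S (Module.End S (Me φ M)) (f ^ k))
    rw [this]
    exact isUnit_one
  let θ : LocalizedModule (Submonoid.powers f) N →ₗ[S] Me φ M :=
    LocalizedModule.lift (Submonoid.powers f) ((ev φ) ∘ₗ (Nsub 𝒜 hf e g).subtype) hunit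
  have hθ : ∀ n : N, θ (LocalizedModule.mk n 1) = ev φ n.1 := fun n =>
    LinearMap.congr_fun (LocalizedModule.lift_comp (Submonoid.powers f)
      ((ev φ) ∘ₗ (Nsub 𝒜 hf e g).subtype) hunit) n
  have hθf : ∀ k x, θ (f ^ k • x) = θ x := fun k x => by
    rw [map_smul]; exact me_smul_of_X φ hfX k _
  have hkey : ∀ (k : ℕ) (n : N) (x : LocalizedModule (Submonoid.powers f) N), n ∈ ℳ k →
      f ^ k • x = LocalizedModule.mk n 1 → θ x = cf φ k n.1 := by
    intro k n x hn hx
    rw [← hθf k, hx, hθ, (hmem k n).mp hn, ev_sg, cf_sg, if_pos rfl]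
  have hfmem : ∀ k, f ^ k ∈ 𝒜 k := by
    intro k
    have := SetLike.pow_mem_graded (A := 𝒜) k hf
    simpa using this
  have hmk : ∀ n : N, LocalizedModule.mk n (1 : Submonoid.powers f) =
      LocalizedModule.mkLinearMap (Submonoid.powers f) N n := fun _ => rfl
  have hRl : ∀ (a : R) (x : LocalizedModule (Submonoid.powers f) N), a • x = algebraMap R S a • x :=
    fun a x => (algebraMap_smul S a x).symm
  let Nf : Submodule R (LocalizedModule (Submonoid.powers f) N) :=
    { carrier := {x | ∃ k : ℕ, ∃ n ∈ ℳ k, f ^ k • x = LocalizedModule.mk n 1}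
      add_mem' := by
        rintro x y ⟨k, n, hn, hx⟩ ⟨l, n', hn', hy⟩
        refine ⟨l + k, f ^ l • n + f ^ k • n', Submodule.add_mem _ ?_ ?_, ?_⟩
        · exact gs.smul_mem (hfmem l) hn
        · have := gs.smul_mem (hfmem k) hn'
          rwa [add_comm l k]
        · rw [hmk, map_add, map_smul, map_smul, ← hmk, ← hmk, ← hx, ← hy, smul_smul, smul_smul,
            ← pow_add, ← pow_add, add_comm k l, smul_add]
      zero_mem' := ⟨0, 0, Submodule.zero_mem _, by rw [hmk, map_zero, smul_zero]⟩
      smul_mem' := by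
        rintro a x ⟨k, n, hn, hx⟩
        refine ⟨k, a • n, Submodule.smul_mem _ _ hn, ?_⟩
        rw [hRl, smul_comm, hx, hmk, hmk, ← map_smul]
        rfl }
  have hNf : ∀ x, x ∈ Nf ↔ ∃ k : ℕ, ∃ n ∈ ℳ k, f ^ k • x = LocalizedModule.mk n 1 := fun _ => Iff.rfl
  let E : Nf →ₗ[R] M :=
    { toFun := fun x => θ x.1
      map_add' := fun x y => map_add θ _ _
      map_smul' := fun a x => by
        change θ (a • x.1) = _
        rw [hRl, map_smul, me_smul φ (hRφ a)]
        exact @algebraMap_smul R _ R' _ _ M _ _ _ _ a (θ x.1) }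
  have hE : Function.Bijective E := by
    constructor
    · rw [injective_iff_map_eq_zero]
      rintro ⟨x, k, n, hn, hx⟩ h0
      have h1 : θ x = 0 := h0
      have h2 := hkey k n x hn hx
      rw [h1] at h2
      have h3 : n = 0 := by
        apply Subtype.ext
        rw [(hmem k n).mp hn, ← h2]
        exact map_zero _
      rw [h3, hmk, map_zero] at hx
      have hu := IsLocalizedModule.map_units (S := Submonoid.powers f)
        (LocalizedModule.mkLinearMap (Submonoid.powers f) N) ⟨f ^ k, k, rfl⟩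
      rw [Module.End.isUnit_iff] at hu
      apply Subtype.ext
      apply hu.1
      change f ^ k • x = f ^ k • 0
      rw [hx, smul_zero]
    · intro m
      obtain ⟨k, hk⟩ := exists_smul_sum 𝒜 hf e g hg m
      let n : N := ⟨sg φ k m, hk⟩
      have hn : n ∈ ℳ k := by
        intro j hj
        rw [cf_sg, if_neg hj.symm]
      have hx : f ^ k • LocalizedModule.mk n (⟨f ^ k, k, rfl⟩ : Submonoid.powers f) =
          LocalizedModule.mk n 1 := by
        rw [LocalizedModule.smul'_mk]
        exact LocalizedModule.mk_cancel (⟨f ^ k, k, rfl⟩ : Submonoid.powers f) n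
      refine ⟨⟨LocalizedModule.mk n ⟨f ^ k, k, rfl⟩, k, n, hn, hx⟩, ?_⟩
      have h5 := hkey k n _ hn hx
      rw [cf_sg, if_pos rfl] at h5
      exact h5
  refine ⟨N, inferInstance, inferInstance, i1, i2, ℳ, dec, gs, Nf, LinearEquiv.ofBijective E hE, ?_, hNf, ?_⟩
  · exact Module.Finite.iff_fg.mpr (Submodule.fg_span (Set.finite_range _))
  · intro a x y hxy
    obtain ⟨i, s, rfl⟩ := exists_q 𝒜 hf a
    have h1 : f ^ i • y.1 = s.1 • x.1 := by
      rw [← hxy, ← smul_assoc]
      have h2 : f ^ i • (q 𝒜 hf i s).val = algebraMap S (Localization (Submonoid.powers f)) s.1 := by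
        rw [val_q, Algebra.smul_def, ← Localization.mk_one_eq_algebraMap, Localization.mk_mul,
          ← Localization.mk_one_eq_algebraMap, Localization.mk_eq_mk_iff, Localization.r_iff_exists]
        refine ⟨1, ?_⟩
        simp
      rw [h2, algebraMap_smul]
    have h3 : θ y.1 = s.1 • θ x.1 := by rw [← hθf i, h1, map_smul]
    rw [me_smul φ (phi_of_mem 𝒜 hf e s.2)] at h3
    exact h3

end K81.GrExt
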