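import Groth.Agent.Flat2B.BCTools
import Mathlib.Algebra.Module.FinitePresentation
import Mathlib.RingTheory.Finiteness.ModuleFinitePresentation
import Mathlib.RingTheory.TensorProduct.MvPolynomial
import Mathlib.Tactic

/-!
# Modules of finite presentation through a ring map

* `of_comp`: `Q → P → A` with `Q → P` surjective: f.p. over `Q` implies f.p. over `P`.
* `comp`: `Q → P` surjective with finitely generated kernel: f.p. over `P` implies f.p. over `Q`.
* `of_presentations`: independence of the surjective presentation.
* `baseChange`: base change of relatively f.p. modules.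
-/

set_option autoImplicit false
set_option linter.style.haveILetI false
universe u
open TensorProduct

attribute [local instance] MvPolynomial.algebraMvPolynomial

namespace K81.RelFP

/-- `N` is finitely presented as a `P`-module through `φ : P → A`. -/
def FPvia {P A : Type u} [CommRing P] [CommRing A] (φ : P →+* A) (N : Type u) [AddCommGroup N]
    [Module A N] : Prop :=
  @Module.FinitePresentation P N _ _ (Module.compHom N φ)

theorem of_comp {Q P A : Type u} [CommRing Q] [CommRing P] [CommRing A] (π : Q →+* P) (φ : P →+* A)
    (hπ : Function.Surjective π) (N : Type u) [AddCommGroup N] [Module A N]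
    (h : FPvia (φ.comp π) N) : FPvia φ N := by
  letI : Algebra Q P := π.toAlgebra
  letI : Module P N := Module.compHom N φ
  letI : Module Q N := Module.compHom N (φ.comp π)
  haveI : IsScalarTower Q P N := ⟨fun q p n => by
    change (φ (π q * p)) • n = (φ (π q)) • (φ p • n)
    rw [map_mul, mul_smul]⟩
  have h' : Module.FinitePresentation Q N := h
  change Module.FinitePresentation P N
  have hfin : Module.Finite P N := Module.Finite.of_restrictScalars_finite Q P N
  obtain ⟨n, f, hf⟩ := Module.Finite.exists_fin' P N
  -- the corresponding map over `Q`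
  let s : (Fin n → Q) →ₗ[Q] (Fin n → P) := LinearMap.pi fun i =>
    (Algebra.linearMap Q P) ∘ₗ LinearMap.proj i
  have hs : Function.Surjective s := by
    intro y
    choose x hx using fun i => hπ (y i)
    exact ⟨x, funext hx⟩
  let g : (Fin n → Q) →ₗ[Q] N := f.restrictScalars Q ∘ₗ s
  have hg : Function.Surjective g := hf.comp hs
  have hker : (LinearMap.ker g).FG := Module.FinitePresentation.fg_ker g hg
  have h2 : (LinearMap.ker g).map s = (LinearMap.ker f).restrictScalars Q := by
    apply le_antisymm
    · rw [Submodule.map_le_iff_le_comap]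
      intro x hx
      exact hx
    · intro y hy
      obtain ⟨x, rfl⟩ := hs y
      exact ⟨x, hy, rfl⟩
  have h3 : ((LinearMap.ker f).restrictScalars Q).FG := h2 ▸ hker.map s
  exact Module.finitePresentation_of_surjective f hf (Submodule.FG.of_restrictScalars Q h3)

theorem comp {Q P A : Type u} [CommRing Q] [CommRing P] [CommRing A] (π : Q →+* P) (φ : P →+* A)
    (hπ : Function.Surjective π) (hk : (RingHom.ker π).FG) (N : Type u) [AddCommGroup N] [Module A N]
    (h : FPvia φ N) : FPvia (φ.comp π) N := by
  letI : Algebra Q P := π.toAlgebra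
  letI : Module P N := Module.compHom N φ
  letI : Module Q N := Module.compHom N (φ.comp π)
  haveI : IsScalarTower Q P N := ⟨fun q p n => by
    change (φ (π q * p)) • n = (φ (π q)) • (φ p • n)
    rw [map_mul, mul_smul]⟩
  have h' : Module.FinitePresentation P N := h
  change Module.FinitePresentation Q N
  have : Module.FinitePresentation Q P :=
    Module.finitePresentation_of_surjective (Algebra.linearMap Q P) hπ hk
  exact Module.FinitePresentation.trans Q N P

/-- Independence of the presentation. -/
theorem of_presentations {R A : Type u} [CommRing R] [CommRing A] [Algebra R A] {n k : ℕ}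
    (α : MvPolynomial (Fin n) R →ₐ[R] A) (hα : Function.Surjective α)
    (γ : MvPolynomial (Fin k) R →ₐ[R] A) (hγ : Function.Surjective γ)
    (N : Type u) [AddCommGroup N] [Module A N] (h : FPvia α.toRingHom N) : FPvia γ.toRingHom N := by
  choose p hp using fun j : Fin k => hα (γ (MvPolynomial.X j))
  choose q hq using fun i : Fin n => hγ (α (MvPolynomial.X i))
  let π₁ : MvPolynomial (Fin n ⊕ Fin k) R →ₐ[R] MvPolynomial (Fin n) R :=
    MvPolynomial.aeval (Sum.elim MvPolynomial.X p)
  let π₂ : MvPolynomial (Fin n ⊕ Fin k) R →ₐ[R] MvPolynomial (Fin k) R :=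
    MvPolynomial.aeval (Sum.elim q MvPolynomial.X)
  have hπ₁ : Function.Surjective π₁ := by
    intro x
    refine ⟨MvPolynomial.rename Sum.inl x, ?_⟩
    change MvPolynomial.aeval _ (MvPolynomial.rename Sum.inl x) = x
    rw [MvPolynomial.aeval_rename]
    change MvPolynomial.aeval MvPolynomial.X x = x
    rw [MvPolynomial.aeval_X_left]
    rfl
  have hπ₂ : Function.Surjective π₂ := by
    intro x
    refine ⟨MvPolynomial.rename Sum.inr x, ?_⟩
    change MvPolynomial.aeval _ (MvPolynomial.rename Sum.inr x) = x
    rw [MvPolynomial.aeval_rename]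
    change MvPolynomial.aeval MvPolynomial.X x = x
    rw [MvPolynomial.aeval_X_left]
    rfl
  have hcomp : α.comp π₁ = γ.comp π₂ := by
    apply MvPolynomial.algHom_ext
    rintro (i | j)
    · simp [π₁, π₂, hq]
    · simp [π₁, π₂, hp]
  have hk : (RingHom.ker π₁.toRingHom).FG :=
    Algebra.FinitePresentation.ker_fG_of_surjective π₁ hπ₁
  have h1 := comp π₁.toRingHom α.toRingHom hπ₁ hk N h
  have h2 : α.toRingHom.comp π₁.toRingHom = γ.toRingHom.comp π₂.toRingHom :=
    congrArg AlgHom.toRingHom hcomp
  rw [h2] at h1
  exact of_comp π₂.toRingHom γ.toRingHom hπ₂ N h1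

theorem fpvia_of_isBaseChange {R P R' P' A A' : Type u} [CommRing R] [CommRing P] [CommRing R']
    [CommRing P'] [CommRing A] [CommRing A']
    [Algebra R P] [Algebra R R'] [Algebra R' P'] [Algebra P P'] [Algebra R P'] [IsScalarTower R P P']
    [IsScalarTower R R' P'] [Algebra.IsPushout R P R' P']
    [Algebra R A] [Algebra A A'] [Algebra R' A'] [Algebra R A'] [IsScalarTower R A A']
    [IsScalarTower R R' A'] [Algebra.IsPushout R A R' A']
    (α : P →ₐ[R] A) (α' : P' →ₐ[R'] A')
    (hcomm : ∀ x : P, α' (algebraMap P P' x) = algebraMap A A' (α x))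
    (M M₁ : Type u) [AddCommGroup M] [Module A M] [AddCommGroup M₁] [Module A M₁] [Module A' M₁]
    [IsScalarTower A A' M₁] (g : M →ₗ[A] M₁) (hg : IsBaseChange A' g)
    (hM : FPvia α.toRingHom M) : FPvia α'.toRingHom M₁ := by
  letI : Module P M := Module.compHom M α.toRingHom
  letI : Module P' M₁ := Module.compHom M₁ α'.toRingHom
  letI : Module P M₁ := Module.compHom M₁ (algebraMap P P')
  letI : Module R M := Module.compHom M (algebraMap R A)
  letI : Module R' M₁ := Module.compHom M₁ (algebraMap R' A')
  letI : Module R M₁ := Module.compHom M₁ (algebraMap R R')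
  haveI t1 : IsScalarTower R A M := ⟨fun r a m => by
    change (r • a) • m = (algebraMap R A r) • (a • m)
    rw [Algebra.smul_def, mul_smul]⟩
  haveI t2 : IsScalarTower R' A' M₁ := ⟨fun r a m => by
    change (r • a) • m = (algebraMap R' A' r) • (a • m)
    rw [Algebra.smul_def, mul_smul]⟩
  haveI t3 : IsScalarTower R R' M₁ := ⟨fun r a m => by
    change (r • a) • m = (algebraMap R R' r) • (a • m)
    rw [Algebra.smul_def, mul_smul]⟩
  haveI t4 : IsScalarTower R A M₁ := ⟨fun r a m => by
    change (r • a) • m = (algebraMap R' A' (algebraMap R R' r)) • (a • m)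
    rw [← IsScalarTower.algebraMap_apply, IsScalarTower.algebraMap_apply R A A', algebraMap_smul,
      Algebra.smul_def, mul_smul]⟩
  have h1 : IsBaseChange R' (g.restrictScalars R) :=
    Groth.Agent.Flat2B.BCTools.isBaseChange_of_isPushout g hg
  haveI t5 : IsScalarTower R P M := ⟨fun r a m => by
    change (α (r • a)) • m = (algebraMap R A r) • (α a • m)
    rw [map_smul, Algebra.smul_def, mul_smul]⟩
  haveI t6 : IsScalarTower P P' M₁ := ⟨fun r a m => by
    change (r • a) • m = (algebraMap P P' r) • (a • m)
    rw [Algebra.smul_def, mul_smul]⟩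
  haveI t7 : IsScalarTower R' P' M₁ := ⟨fun r a m => by
    change (α' (r • a)) • m = (algebraMap R' A' r) • (α' a • m)
    rw [map_smul, Algebra.smul_def, mul_smul]⟩
  haveI t8 : IsScalarTower R P M₁ := ⟨fun r a m => by
    change (α' (algebraMap P P' (r • a))) • m =
      (algebraMap R' A' (algebraMap R R' r)) • (α' (algebraMap P P' a) • m)
    rw [hcomm, hcomm, map_smul, Algebra.smul_def, map_mul, mul_smul, ← IsScalarTower.algebraMap_apply,
      ← IsScalarTower.algebraMap_apply]⟩
  let g' : M →ₗ[P] M₁ :=
    { toFun := g
      map_add' := g.map_add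
      map_smul' := fun p m => by
        change g (α p • m) = (α' (algebraMap P P' p)) • g m
        rw [hcomm, map_smul, algebraMap_smul] }
  have h2 : IsBaseChange R' (g'.restrictScalars R) := h1
  have h3 : IsBaseChange P' g' :=
    Groth.Agent.Flat2B.BCTools.isBaseChange_of_restrictScalars (S := R) (A := P) (S₁ := R') (A₁ := P')
      inferInstance g' h2
  have h4 : Module.FinitePresentation P M := hM
  exact FinitePresentation.of_isBaseChange g' h3

theorem baseChange {R A R' A' : Type u} [CommRing R] [CommRing A] [CommRing R'] [CommRing A']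
    [Algebra R A] [Algebra R R'] [Algebra A A'] [Algebra R' A'] [Algebra R A'] [IsScalarTower R A A']
    [IsScalarTower R R' A'] [Algebra.IsPushout R A R' A'] (M : Type u) [AddCommGroup M] [Module A M]
    {n : ℕ} (α : MvPolynomial (Fin n) R →ₐ[R] A) (hα : Function.Surjective α)
    (hM : FPvia α.toRingHom M) :
    ∃ α' : MvPolynomial (Fin n) R' →ₐ[R'] A', Function.Surjective α' ∧
      FPvia α'.toRingHom (A' ⊗[A] M) := by
  let P := MvPolynomial (Fin n) R
  let P' := MvPolynomial (Fin n) R'
  let α' : P' →ₐ[R'] A' := MvPolynomial.aeval fun i => algebraMap A A' (α (MvPolynomial.X i))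
  have hcomm : ∀ x : P, α' (algebraMap P P' x) = algebraMap A A' (α x) := by
    have h1 : (α'.toRingHom.comp (algebraMap P P')) = (algebraMap A A').comp α.toRingHom := by
      apply MvPolynomial.ringHom_ext
      · intro r
        simp only [RingHom.comp_apply]
        have h2 : algebraMap P P' (MvPolynomial.C r) = algebraMap R' P' (algebraMap R R' r) := by
          change MvPolynomial.map (algebraMap R R') (MvPolynomial.C r) = _
          rw [MvPolynomial.map_C]; rfl
        rw [h2]
        change α' (algebraMap R' P' (algebraMap R R' r)) = algebraMap A A' (α (algebraMap R P r))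
        rw [α'.commutes, α.commutes, ← IsScalarTower.algebraMap_apply, ← IsScalarTower.algebraMap_apply]
      · intro i
        simp only [RingHom.comp_apply]
        have h2 : algebraMap P P' (MvPolynomial.X i) = MvPolynomial.X i := by
          change MvPolynomial.map (algebraMap R R') (MvPolynomial.X i) = _
          rw [MvPolynomial.map_X]
        rw [h2]
        exact MvPolynomial.aeval_X _ _
    exact fun x => RingHom.congr_fun h1 x
  have hsurj : Function.Surjective α' := by
    rw [← AlgHom.range_eq_top, eq_top_iff]
    rintro x -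
    have hbc : IsBaseChange R' (IsScalarTower.toAlgHom R A A').toLinearMap :=
      (Algebra.IsPushout.symm (inferInstance : Algebra.IsPushout R A R' A')).out
    refine IsBaseChange.inductionOn hbc x (fun x => x ∈ α'.range) (zero_mem _) ?_ ?_ ?_
    · intro a
      obtain ⟨b, rfl⟩ := hα a
      exact ⟨algebraMap P P' b, hcomm b⟩
    · intro r y hy
      exact Subalgebra.smul_mem _ hy r
    · intro y z hy hz
      exact add_mem hy hz
  exact ⟨α', hsurj, fpvia_of_isBaseChange α α' hcomm M (A' ⊗[A] M) (TensorProduct.mk A A' M 1)
    (TensorProduct.isBaseChange A M A') hM⟩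

end K81.RelFP
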